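import Groth.Agent.ComodLib.StableClosed
import Groth.Agent.ComodLib.Reductive

/-!
# Orbits of unipotent groups on affine schemes are closed

A stable ideal of an orbit closure maps to a subcomodule of the coordinate ring of the group; if that is
nonzero it contains a nonzero fixed vector, that is a nonzero constant, so the ideal is everything.
-/

set_option linter.style.haveILetI false
set_option linter.unusedSectionVars false

universe u w

open TensorProduct

namespace Groth.Agent.GITUnip

open ComodLib GLin

variable {k : Type u} [Field k] {A : Type u} [CommRing A] [HopfAlgebra k A]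

/-- A nonzero subcomodule for a unipotent group contains a nonzero fixed vector. -/
theorem exists_fixed_mem (hU : HopfRep.IsUnipotent k A) {V : Type u} [AddCommGroup V] [Module k V]
    [c : HopfRep.Comod k A V] {U : Submodule k V} (hsub : HopfRep.IsSubcomod (k := k) (A := A) U) (hne : U ≠ ⊥) :
    ∃ v ∈ U, v ≠ 0 ∧ v ∈ HopfRep.fixedPts k A V := by
  obtain ⟨u₀, hu₀, hu0⟩ := Submodule.exists_mem_ne_zero_of_ne_bot hne
  obtain ⟨U₀, hfin, hmem, hU₀⟩ := exists_finite_subcomod_mem (C := A) (k := k) u₀
  have hW := isSubcomod_inf hsub hU₀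
  haveI := hfin
  haveI : Module.Finite k ↥(U ⊓ U₀) := Submodule.finiteDimensional_inf_right U U₀
  haveI : Nontrivial ↥(U ⊓ U₀) := ⟨⟨u₀, hu₀, hmem⟩, 0, fun h => hu0 (congrArg Subtype.val h)⟩
  letI := ComodSub.Comod.restr c (U ⊓ U₀) hW
  obtain ⟨v, hv, hv0⟩ := Submodule.exists_mem_ne_zero_of_ne_bot (hU ↥(U ⊓ U₀) inferInstance inferInstance)
  exact ⟨v, v.2.1, fun h => hv0 (Subtype.ext h), map_mem_fixedPts (ComodSub.isComodHom_subtype c _ hW) hv⟩

/-- The only functions on a group fixed by translations are the constants. -/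
theorem eq_algebraMap_of_fixed {a : A} (ha : a ∈ HopfRep.fixedPts k A A) :
    a = algebraMap k A (Coalgebra.counit (R := k) a) := by
  have h : Coalgebra.comul (R := k) a = a ⊗ₜ[k] (1 : A) := ha
  have h2 := Coalgebra.rTensor_counit_comul (R := k) a
  rw [h, LinearMap.rTensor_tmul] at h2
  have h3 := congrArg (TensorProduct.lid k A) h2
  rw [TensorProduct.lid_tmul, TensorProduct.lid_tmul, one_smul] at h3
  exact h3.symm.trans (Algebra.algebraMap_eq_smul_one _).symm

variable {R : Type u} [CommRing R] [Algebra k R] [HopfRep.Comod k A R] [GLin.IsCoactAlg k A R]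

/-- A stable ideal containing an orbit ideal strictly is everything. -/
theorem eq_top_of_lt (hU : HopfRep.IsUnipotent k A) (x : R →ₐ[k] k) {I : Ideal R}
    (hI : HopfRep.IsSubcomod (k := k) (A := A) (I.restrictScalars k))
    (hlt : RingHom.ker (orbitHom k A x) < I) : I = ⊤ := by
  obtain ⟨hle, f, hfI, hf⟩ := SetLike.lt_iff_le_and_exists.mp hlt
  obtain ⟨a, ha, ha0, hfix⟩ := exists_fixed_mem hU
    (isSubcomod_map (isComodHom_orbitHom (A := A) x) hI) (fun hbot => hf (by
      have : orbitHom k A x f ∈ (I.restrictScalars k).map (orbitHom k A x).toLinearMap := ⟨f, hfI, rfl⟩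
      rw [hbot, Submodule.mem_bot] at this
      exact this))
  obtain ⟨b, hb, rfl⟩ := ha
  replace hb : b ∈ I := hb
  have hb' : orbitHom k A x b = algebraMap k A (x b) := by
    have := eq_algebraMap_of_fixed hfix
    rwa [show Coalgebra.counit (R := k) ((orbitHom k A x).toLinearMap b) = x b from counit_orbitHom x b] at this
  have hc0 : x b ≠ 0 := fun h => ha0 (by
    show orbitHom k A x b = 0
    rw [hb', h, map_zero])
  have h1 : b - algebraMap k R (x b) ∈ I := hle (by
    rw [RingHom.mem_ker, map_sub, hb', AlgHom.commutes, sub_self])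
  exact Ideal.eq_top_of_isUnit_mem I (by simpa using I.sub_mem hb h1) ((Ne.isUnit hc0).map (algebraMap k R))

/-- Orbit closures of a unipotent group do not shrink. -/
theorem ker_orbitHom_eq (hU : HopfRep.IsUnipotent k A) {x z : R →ₐ[k] k}
    (hz : GLin.InOrbitClosure k A x z) : RingHom.ker (orbitHom k A x) = RingHom.ker (orbitHom k A z) := by
  by_contra hne
  have htop := eq_top_of_lt hU x (isSubcomod_ker_orbitHom z) (lt_of_le_of_ne ((inOrbitClosure_iff x z).mp hz) hne)
  exact RingHom.ker_ne_top _ (top_le_iff.mp (htop ▸ ker_orbitHom_le (A := A) z))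

/-- Orbits of a unipotent algebraic group on an affine scheme of finite type are closed. -/
theorem isClosedOrbit_of_isUnipotent [IsAlgClosed k] [Algebra.FiniteType k A] [Algebra.FiniteType k R]
    (hU : HopfRep.IsUnipotent k A) (x : R →ₐ[k] k) : GLin.IsClosedOrbit k A x :=
  isClosedOrbit_of_forall_mem fun _ hw => exists_actPt_of_ker_eq (ker_orbitHom_eq hU hw)

end Groth.Agent.GITUnip
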