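import Groth.Agent.GITUnip.ClosedOrbit
import Groth.Agent.GrpSchLib.SubHopf
import Groth.Agent.ComodLib.Push

/-!
# Closed orbits for unions of unipotent algebraic groups
-/

set_option linter.style.haveILetI false
set_option linter.unusedSectionVars false

universe u

open TensorProduct

namespace Groth.Agent.GITUnip

open ComodLib GLin

variable {k : Type u} [Field k] {H : Type u} [CommRing H] [HopfAlgebra k H]

/-- A quotient group of a unipotent group is unipotent. -/
theorem isUnipotent_of_injective {C : Type u} [CommRing C] [Bialgebra k C] (i : C →ₐc[k] H)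
    (hi : Function.Injective i) (hU : HopfRep.IsUnipotent k H) : HopfRep.IsUnipotent k C := by
  intro V _ _ c hfin hnt
  letI cH : HopfRep.Comod k H V := pushComod (i : C →ₗc[k] H) c
  obtain ⟨v, hv, hv0⟩ := Submodule.exists_mem_ne_zero_of_ne_bot (hU V hfin hnt)
  refine (Submodule.ne_bot_iff _).mpr ⟨v, ?_, hv0⟩
  have h : (i : C →ₗ[k] H).lTensor V (c.coact v) = v ⊗ₜ[k] (1 : H) := hv
  show c.coact v = v ⊗ₜ[k] (1 : C)
  refine Module.Flat.lTensor_preserves_injective_linearMap (i : C →ₗ[k] H) hi (h.trans ?_)
  show v ⊗ₜ[k] (1 : H) = v ⊗ₜ[k] i 1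
  rw [map_one]

variable {A : Type u} [CommRing A] [Algebra k A] [HopfRep.Comod k H A] [GLin.IsCoactAlg k H A]

section Sub

variable {C : Type u} [CommRing C] [HopfAlgebra k C] (i : C →ₐc[k] H) (hi : Function.Injective i)
variable (A' : Subalgebra k A)
  (hA' : ∀ a ∈ A', HopfRep.Comod.coact (k := k) (A := H) a ∈
    (Algebra.TensorProduct.map A'.val (i : C →ₐ[k] H)).range)

/-- The restricted coaction. -/
noncomputable def coactRes : A' →ₐ[k] A' ⊗[k] C :=
  ((AlgEquiv.ofInjective (Algebra.TensorProduct.map A'.val (i : C →ₐ[k] H))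
    (GrpSchLib.SubHopf.map_val_injective _ _ Subtype.val_injective hi)).symm : _ →ₐ[k] A' ⊗[k] C).comp
    (((GLin.coactAlgHom k H A).comp A'.val).codRestrict _ fun a => hA' a.1 a.2)

theorem map_coactRes (a : A') :
    Algebra.TensorProduct.map A'.val (i : C →ₐ[k] H) (coactRes i hi A' hA' a) =
      HopfRep.Comod.coact (k := k) (A := H) (a : A) :=
  congrArg Subtype.val (AlgEquiv.apply_symm_apply (AlgEquiv.ofInjective
    (Algebra.TensorProduct.map A'.val (i : C →ₐ[k] H))
    (GrpSchLib.SubHopf.map_val_injective _ _ Subtype.val_injective hi)) _)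

/-- The comodule structure on a stable subalgebra. -/
@[reducible] noncomputable def comodRes : HopfRep.Comod k C A' where
  coact := (coactRes i hi A' hA').toLinearMap
  coassoc := LinearMap.ext fun a => by
    let ιA : A' →ₗ[k] A := A'.val.toLinearMap
    let ιC : C →ₗ[k] H := (i : C →ₗ[k] H)
    refine TensorProduct.map_injective_of_flat_flat ιA (TensorProduct.map ιC ιC) Subtype.val_injective
      (TensorProduct.map_injective_of_flat_flat ιC ιC hi hi) ?_
    simp only [LinearMap.comp_apply, LinearEquiv.coe_coe]
    have e0 : ∀ z : A' ⊗[k] C, TensorProduct.map ιA ιC z = Algebra.TensorProduct.map A'.val (i : C →ₐ[k] H) z := by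
      intro z
      induction z using TensorProduct.induction_on with
      | zero => simp
      | tmul x y => simp [ιA, ιC]
      | add s t hs ht => simp only [map_add, hs, ht]
    have hc : ∀ a : A', TensorProduct.map ιA ιC ((coactRes i hi A' hA').toLinearMap a) =
        HopfRep.Comod.coact (k := k) (A := H) (a : A) := fun a => (e0 _).trans (map_coactRes i hi A' hA' a)
    have e1 : ∀ z : (A' ⊗[k] C) ⊗[k] C, TensorProduct.map ιA (TensorProduct.map ιC ιC)
        (TensorProduct.assoc k A' C C z) = TensorProduct.assoc k A H H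
          (TensorProduct.map (TensorProduct.map ιA ιC) ιC z) := by
      intro z
      induction z using TensorProduct.induction_on with
      | zero => simp
      | tmul x y =>
        induction x using TensorProduct.induction_on with
        | zero => simp
        | tmul p q => simp
        | add s t hs ht => simp only [add_tmul, map_add, hs, ht]
      | add s t hs ht => simp only [map_add, hs, ht]
    have e2 : ∀ z : A' ⊗[k] C, TensorProduct.map (TensorProduct.map ιA ιC) ιC
        ((coactRes i hi A' hA').toLinearMap.rTensor C z) =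
        (HopfRep.Comod.coact (k := k) (A := H) (V := A)).rTensor H (TensorProduct.map ιA ιC z) := by
      intro z
      induction z using TensorProduct.induction_on with
      | zero => simp
      | tmul x y => rw [LinearMap.rTensor_tmul, TensorProduct.map_tmul, TensorProduct.map_tmul, LinearMap.rTensor_tmul, hc]; rfl
      | add s t hs ht => simp only [map_add, hs, ht]
    have e3 : ∀ z : A' ⊗[k] C, TensorProduct.map ιA (TensorProduct.map ιC ιC)
        ((Coalgebra.comul (R := k) (A := C)).lTensor A' z) =
        (Coalgebra.comul (R := k) (A := H)).lTensor A (TensorProduct.map ιA ιC z) := by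
      intro z
      induction z using TensorProduct.induction_on with
      | zero => simp
      | tmul x y =>
        rw [LinearMap.lTensor_tmul, TensorProduct.map_tmul, TensorProduct.map_tmul, LinearMap.lTensor_tmul]
        congr 1
        exact CoalgHomClass.map_comp_comul_apply i y
      | add s t hs ht => simp only [map_add, hs, ht]
    rw [e1, e2, hc, e3, hc]
    exact LinearMap.congr_fun (HopfRep.Comod.coassoc (k := k) (A := H) (V := A)) (a : A)
  counit_comp := LinearMap.ext fun a => by
    refine Module.Flat.rTensor_preserves_injective_linearMap A'.val.toLinearMap Subtype.val_injective ?_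
    simp only [LinearMap.comp_apply]
    have e : ∀ z : A' ⊗[k] C, A'.val.toLinearMap.rTensor k ((Coalgebra.counit (R := k) (A := C)).lTensor A' z) =
        (Coalgebra.counit (R := k) (A := H)).lTensor A (Algebra.TensorProduct.map A'.val (i : C →ₐ[k] H) z) := by
      intro z
      induction z using TensorProduct.induction_on with
      | zero => simp
      | tmul x y => simp
      | add s t hs ht => simp only [map_add, hs, ht]
    refine (e _).trans ?_
    rw [show (coactRes i hi A' hA').toLinearMap a = coactRes i hi A' hA' a from rfl, map_coactRes]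
    exact LinearMap.congr_fun (HopfRep.Comod.counit_comp (k := k) (A := H) (V := A)) (a : A)

theorem isCoactAlg_comodRes :
    letI := comodRes i hi A' hA'
    GLin.IsCoactAlg k C A' :=
  letI := comodRes i hi A' hA'
  ⟨map_one (coactRes i hi A' hA'), fun f f' => map_mul (coactRes i hi A' hA') f f'⟩

theorem orbitHom_comodRes (x : A →ₐ[k] k) (a : A') :
    letI := comodRes i hi A' hA'
    haveI := isCoactAlg_comodRes i hi A' hA'
    i (GLin.orbitHom k C (x.comp A'.val) a) = GLin.orbitHom k H x (a : A) := by
  letI := comodRes i hi A' hA'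
  haveI := isCoactAlg_comodRes i hi A' hA'
  rw [orbitHom_apply, orbitHom_apply, ← map_coactRes i hi A' hA' a]
  show i (TensorProduct.lid k C ((x.comp A'.val).toLinearMap.rTensor C (coactRes i hi A' hA' a))) = _
  induction coactRes i hi A' hA' a using TensorProduct.induction_on with
  | zero => simp
  | tmul p q => simp
  | add p q hp hq => simp only [map_add, hp, hq]

end Sub

variable [IsAlgClosed k]

open Classical in
/-- Orbits are closed for a group which is a directed union of unipotent algebraic quotients. -/
theorem isClosedOrbit_of_iUnion (hU : HopfRep.IsUnipotent k H) (B : ℕ → Subalgebra k H) (hmono : Monotone B)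
    (hcov : ∀ h : H, ∃ i, h ∈ B i) (hfg : ∀ i, (B i).FG) (hB : ∀ i, SGA3.IsHopfSubalgebra k H (B i))
    (x : A →ₐ[k] k) : GLin.IsClosedOrbit k H x := by
  show IsClosed _
  set φ := GLin.orbitHom k H x with hφ
  suffices h : ∀ P : PrimeSpectrum A, RingHom.ker φ ≤ P.asIdeal → P ∈ Set.range (PrimeSpectrum.comap φ.toRingHom) by
    refine closure_subset_iff_isClosed.mp fun P hP => h P ?_
    rw [PrimeSpectrum.closure_range_comap, PrimeSpectrum.mem_zeroLocus] at hP
    exact hP
  intro P hJP
  rw [PrimeSpectrum.mem_range_comap_iff]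
  refine le_antisymm (fun s hs => ?_) Ideal.le_comap_map
  have hs' : φ s ∈ Submodule.span H (φ '' (P.asIdeal : Set A)) := hs
  obtain ⟨l, hl, hls⟩ := (Finsupp.mem_span_image_iff_linearCombination H).mp hs'
  obtain ⟨W, hWf, hWs, hW⟩ := exists_finite_subcomod_le (C := H) (k := k)
    ((Set.finite_singleton s).union l.support.finite_toSet)
  haveI := hWf
  let b := Module.Free.chooseBasis k W
  choose z hz using fun j => hW (b j : A) (b j).2
  choose T hT using fun j => TensorProduct.exists_finset (z j)
  obtain ⟨N, hN⟩ : ∃ N, ∀ h ∈ (Finset.univ.biUnion fun j => (T j).image Prod.snd) ∪ l.support.image l, h ∈ B N := by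
    choose f hf using hcov
    exact ⟨((Finset.univ.biUnion fun j => (T j).image Prod.snd) ∪ l.support.image l).sup f,
      fun h hh => hmono (Finset.le_sup hh) (hf h)⟩
  letI := GrpSchLib.SubHopf.hopf (B N) (hB N)
  haveI : Algebra.FiniteType k (B N) := (B N).fg_iff_finiteType.mp (hfg N)
  let i : (B N) →ₐc[k] H := BialgHom.ofAlgHom (B N).val (AlgHom.ext fun _ => rfl)
    (AlgHom.ext fun a => GrpSchLib.SubHopf.map_comulRes (B N) (hB N) a)
  have hi : Function.Injective i := Subtype.val_injective
  let A' : Subalgebra k A := Algebra.adjoin k (Set.range fun j => (b j : A))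
  haveI : Algebra.FiniteType k A' :=
    A'.fg_iff_finiteType.mp (Subalgebra.fg_def.mpr ⟨_, Set.finite_range _, rfl⟩)
  have hWA : ∀ w ∈ W, w ∈ A' := by
    intro w hw
    have h1 : (⟨w, hw⟩ : W) ∈ Submodule.span k (Set.range b) := b.mem_span _
    have h2 := Submodule.mem_map_of_mem (f := W.subtype) h1
    rw [Submodule.map_span, ← Set.range_comp] at h2
    exact Algebra.span_le_adjoin k _ h2
  have hA' : ∀ a ∈ A', HopfRep.Comod.coact (k := k) (A := H) a ∈
      (Algebra.TensorProduct.map A'.val (i : (B N) →ₐ[k] H)).range := by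
    intro a ha
    have hle : A' ≤ (Algebra.TensorProduct.map A'.val (i : (B N) →ₐ[k] H)).range.comap (GLin.coactAlgHom k H A) := by
      refine Algebra.adjoin_le ?_
      rintro _ ⟨j, rfl⟩
      show HopfRep.Comod.coact (k := k) (A := H) (b j : A) ∈ (Algebra.TensorProduct.map A'.val (i : (B N) →ₐ[k] H)).range
      rw [← hz j, hT j, map_sum]
      refine Subalgebra.sum_mem _ fun p hp => ?_
      have hp2 : p.2 ∈ B N := hN p.2 (Finset.mem_union_left _ (Finset.mem_biUnion.mpr
        ⟨j, Finset.mem_univ j, Finset.mem_image_of_mem _ hp⟩))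
      exact ⟨(⟨(p.1 : A), hWA _ p.1.2⟩ : A') ⊗ₜ[k] (⟨p.2, hp2⟩ : B N), rfl⟩
    exact hle ha
  letI := comodRes i hi A' hA'
  haveI := isCoactAlg_comodRes i hi A' hA'
  set φ' := GLin.orbitHom k (B N) (x.comp A'.val)
  have hφ' : ∀ a : A', i (φ' a) = φ (a : A) := fun a => orbitHom_comodRes i hi A' hA' x a
  have hclosed := isClosedOrbit_of_isUnipotent (isUnipotent_of_injective i hi hU) (x.comp A'.val)
  let P' : PrimeSpectrum A' := PrimeSpectrum.comap A'.val.toRingHom P
  have hP' : P' ∈ Set.range (PrimeSpectrum.comap φ'.toRingHom) := by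
    rw [← hclosed.closure_eq, PrimeSpectrum.closure_range_comap, PrimeSpectrum.mem_zeroLocus]
    intro a ha
    refine hJP ?_
    show φ (a : A) = 0
    rw [← hφ' a, show φ' a = 0 from ha, map_zero]
  have hsA : s ∈ A' := hWA s (hWs (Set.mem_union_left _ rfl))
  have hmem : φ' ⟨s, hsA⟩ ∈ P'.asIdeal.map φ'.toRingHom := by
    have hterm : ∀ p ∈ l.support, ∃ y ∈ P'.asIdeal.map φ'.toRingHom, i y = l p • φ p := fun p hp => by
      have hpA : p ∈ A' := hWA p (hWs (Set.mem_union_right _ hp))
      have hpl : l p ∈ B N := hN _ (Finset.mem_union_right _ (Finset.mem_image_of_mem _ hp))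
      refine ⟨⟨l p, hpl⟩ * φ' ⟨p, hpA⟩, Ideal.mul_mem_left _ _ (Ideal.mem_map_of_mem _ (hl hp)), ?_⟩
      rw [map_mul, hφ', smul_eq_mul]
      rfl
    choose! y hy hiy using hterm
    have hsum : φ' ⟨s, hsA⟩ = ∑ p ∈ l.support, y p := hi (by
      rw [hφ', map_sum, Finset.sum_congr rfl hiy, ← hls]
      rfl)
    rw [hsum]
    exact Ideal.sum_mem _ hy
  have h3 : (⟨s, hsA⟩ : A') ∈ (P'.asIdeal.map φ'.toRingHom).comap φ'.toRingHom := hmem
  rw [(PrimeSpectrum.mem_range_comap_iff φ'.toRingHom).mp hP'] at h3
  exact h3

end Groth.Agent.GITUnip
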