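import Groth.Agent.ComodLib.Basic
import Groth.Agent.ComodLib.Coalg
import Mathlib.RingTheory.HopfAlgebra.MonoidAlgebra
import Mathlib.RingTheory.HopfAlgebra.Convolution
import Mathlib.RingTheory.Flat.Basic
import Mathlib.RingTheory.FiniteType
import Mathlib.LinearAlgebra.Eigenspace.Triangularizable
import Mathlib.GroupTheory.Finiteness
import Mathlib.LinearAlgebra.FreeModule.PID

/-!
# A rational point with a non-torsion eigenvalue gives a subtorus

The generalised eigenspaces of the translation by a rational point `g` grade the coordinate ring compatibly with the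
comultiplication; the eigenvalues met off the augmentation ideal form the character group of a diagonalisable subgroup.
-/

set_option linter.style.haveILetI false
set_option linter.unusedSectionVars false

universe u w

open TensorProduct WithConv Module

namespace Groth.Agent.GITUnip

open ComodLib
open scoped Classical

variable {k : Type u} [Field k] [IsAlgClosed k] {A : Type u} [CommRing A] [HopfAlgebra k A] (g : A →ₐ[k] k)

/-- Translation by a point, as an algebra endomorphism. -/
noncomputable def trans : A →ₐ[k] A :=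
  (Algebra.TensorProduct.rid k k A).toAlgHom.comp
    ((Algebra.TensorProduct.map (AlgHom.id k A) g).comp (Bialgebra.comulAlgHom k A))

theorem trans_eq_actF (a : A) : trans g a = actF (C := A) (V := A) g.toLinearMap a := by
  show Algebra.TensorProduct.rid k k A ((Algebra.TensorProduct.map (AlgHom.id k A) g) (Coalgebra.comul a)) =
    slice g.toLinearMap (Coalgebra.comul a)
  induction Coalgebra.comul (R := k) a using TensorProduct.induction_on with
  | zero => simp
  | tmul p q => simp [slice_tmul]
  | add p q hp hq => simp only [map_add, hp, hq]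

theorem trans_injective : Function.Injective (trans g) := by
  let g' : A →ₐ[k] k := (toConv g)⁻¹.ofConv
  intro a b hab
  have e : ∀ a : A, actF (C := A) (V := A) g'.toLinearMap (trans g a) = a := fun a => by
    rw [trans_eq_actF]
    refine (actF_convMul (toConv g'.toLinearMap) (toConv g.toLinearMap) a).symm.trans ?_
    have h1 : toConv g' * toConv g = 1 := inv_mul_cancel _
    have h2 : toConv g'.toLinearMap * toConv g.toLinearMap = 1 := by
      rw [← AlgHom.toLinearMap_convMul, h1]
      rfl
    rw [h2]
    exact (congrArg (fun f : A →ₗ[k] k => actF (C := A) (V := A) f a) (by ext c; simp)).trans (actF_counit a)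
  rw [← e a, ← e b, hab]

/-- The generalised eigenspaces of the translation. -/
noncomputable def eig (μ : k) : Submodule k A := Module.End.maxGenEigenspace (trans g).toLinearMap μ

theorem mem_eig {μ : k} {a : A} :
    a ∈ eig g μ ↔ ∃ N : ℕ, (((trans g).toLinearMap - μ • 1 : Module.End k A) ^ N) a = 0 :=
  Module.End.mem_maxGenEigenspace _ _ _

theorem eig_zero : eig g 0 = ⊥ := by
  rw [eq_bot_iff]
  intro a ha
  obtain ⟨N, hN⟩ := (mem_eig g).mp ha
  rw [zero_smul, sub_zero] at hN
  induction N generalizing a with
  | zero => simpa using hN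
  | succ N ih =>
    rw [pow_succ', Module.End.mul_apply] at hN
    exact ih (((mem_eig g).mpr ⟨N + 1, by rwa [zero_smul, sub_zero, pow_succ', Module.End.mul_apply]⟩))
      (trans_injective g (hN.trans (map_zero _).symm))

theorem iSup_eig : ⨆ μ, eig g μ = ⊤ := by
  rw [eq_top_iff]
  rintro a -
  obtain ⟨W, hW, haW, hWs⟩ := exists_finite_subcomod_mem (k := k) (C := A) (V := A) a
  haveI := hW
  have hT : ∀ x ∈ W, (trans g).toLinearMap x ∈ W := fun x hx => by
    show trans g x ∈ W
    rw [trans_eq_actF]
    exact subcomod_actF_mem hWs g.toLinearMap hx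
  let TW : Module.End k W := (trans g).toLinearMap.restrict hT
  have hpow : ∀ (N : ℕ) (μ : k) (x : W), ((((TW - μ • 1) ^ N) x : W) : A) =
      (((trans g).toLinearMap - μ • 1 : Module.End k A) ^ N) (x : A) := by
    intro N μ
    induction N with
    | zero => intro x; simp
    | succ N ih =>
      intro x
      rw [pow_succ, pow_succ, Module.End.mul_apply, Module.End.mul_apply, ih]
      rfl
  have hle : ∀ μ, (Module.End.maxGenEigenspace TW μ).map W.subtype ≤ eig g μ := by
    rintro μ _ ⟨x, hx, rfl⟩
    obtain ⟨N, hN⟩ := (Module.End.mem_maxGenEigenspace _ _ _).mp hx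
    exact (mem_eig g).mpr ⟨N, by rw [Submodule.subtype_apply, ← hpow, hN]; rfl⟩
  have h : (⟨a, haW⟩ : W) ∈ ⨆ μ, Module.End.maxGenEigenspace TW μ := by
    rw [Module.End.iSup_maxGenEigenspace_eq_top]
    trivial
  have h2 := Submodule.mem_map_of_mem (f := W.subtype) h
  rw [Submodule.map_iSup] at h2
  exact iSup_mono hle h2

theorem isInternal_eig : DirectSum.IsInternal (eig g) :=
  DirectSum.isInternal_submodule_of_iSupIndep_of_iSup_eq_top
    (Module.End.independent_maxGenEigenspace _) (iSup_eig g)

/-- Induction on the decomposition into generalised eigenvectors of non-zero eigenvalue. -/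
theorem eig_induction {P : A → Prop} (h0 : P 0) (hadd : ∀ a b, P a → P b → P (a + b))
    (h : ∀ (u : kˣ) (a : A), a ∈ eig g (u : k) → P a) (a : A) : P a := by
  refine Submodule.iSup_induction (eig g) (motive := P) (show a ∈ ⨆ μ, eig g μ by rw [iSup_eig]; trivial) ?_ h0 hadd
  intro μ x hx
  by_cases hμ : μ = 0
  · subst hμ
    rw [eig_zero] at hx
    rw [(Submodule.mem_bot k).mp hx]
    exact h0
  · exact h (Units.mk0 μ hμ) x hx

theorem mul_mem_eig {μ ν : k} {a b : A} (ha : a ∈ eig g μ) (hb : b ∈ eig g ν) : a * b ∈ eig g (μ * ν) := by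
  obtain ⟨M, hM⟩ := (mem_eig g).mp ha
  obtain ⟨N, hN⟩ := (mem_eig g).mp hb
  refine (mem_eig g).mpr ⟨M + N, ?_⟩
  clear ha hb
  suffices h : ∀ (n : ℕ) (M N : ℕ) (a b : A), M + N = n →
      (((trans g).toLinearMap - μ • 1 : Module.End k A) ^ M) a = 0 →
      (((trans g).toLinearMap - ν • 1 : Module.End k A) ^ N) b = 0 →
      (((trans g).toLinearMap - (μ * ν) • 1 : Module.End k A) ^ n) (a * b) = 0 from h _ M N a b rfl hM hN
  clear hM hN a b M N
  intro n
  induction n with
  | zero =>
    intro M N a b h ha hb
    obtain rfl : M = 0 := by omega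
    simp only [pow_zero, Module.End.one_apply] at ha ⊢
    rw [ha, zero_mul]
  | succ n ih =>
    intro M N a b h ha hb
    rcases M with _ | M
    · simp only [pow_zero, Module.End.one_apply] at ha
      rw [ha, zero_mul, map_zero]
    rcases N with _ | N
    · simp only [pow_zero, Module.End.one_apply] at hb
      rw [hb, mul_zero, map_zero]
    rw [pow_succ, Module.End.mul_apply] at ha hb ⊢
    have e : ((trans g).toLinearMap - (μ * ν) • 1 : Module.End k A) (a * b) =
        ((trans g).toLinearMap - μ • 1 : Module.End k A) a * trans g b +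
          μ • (a * ((trans g).toLinearMap - ν • 1 : Module.End k A) b) := by
      have hsub : ∀ (c : k) (x : A), ((trans g).toLinearMap - c • 1 : Module.End k A) x = trans g x - c • x :=
        fun _ _ => rfl
      rw [hsub, hsub, hsub, map_mul]
      simp only [Algebra.smul_def, map_mul]
      ring
    rw [e, map_add, map_smul]
    have hTb : (((trans g).toLinearMap - ν • 1 : Module.End k A) ^ (N + 1)) (trans g b) = 0 := by
      have hc : Commute (((trans g).toLinearMap - ν • 1 : Module.End k A) ^ (N + 1)) (trans g).toLinearMap :=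
        (((Commute.refl _).sub_left ((Commute.one_left _).smul_left ν))).pow_left _
      show ((((trans g).toLinearMap - ν • 1 : Module.End k A) ^ (N + 1)) * (trans g).toLinearMap) b = 0
      rw [hc.eq, Module.End.mul_apply, pow_succ, Module.End.mul_apply, hb, map_zero]
    have ha' : (((trans g).toLinearMap - μ • 1 : Module.End k A) ^ (M + 1)) a = 0 := by
      rw [pow_succ, Module.End.mul_apply, ha]
    rw [ih M (N + 1) _ _ (by omega) ha hTb, ih (M + 1) N _ _ (by omega) ha' hb, smul_zero, add_zero]

theorem one_mem_eig : (1 : A) ∈ eig g ((1 : kˣ) : k) :=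
  (mem_eig g).mpr ⟨1, by simp⟩

theorem comul_mem {μ : k} {a : A} (ha : a ∈ eig g μ) :
    Coalgebra.comul (R := k) a ∈ LinearMap.range ((eig g μ).subtype.lTensor A) := by
  obtain ⟨N, hN⟩ := (mem_eig g).mp ha
  have h1 : ∀ a, Coalgebra.comul (R := k) (trans g a) = (trans g).toLinearMap.lTensor A (Coalgebra.comul (R := k) a) := by
    intro a
    refine ext_of_forall_slice_eq fun φ => ?_
    have hR : ∀ x : A ⊗[k] A,
        slice φ ((trans g).toLinearMap.lTensor A x) = slice (φ ∘ₗ (trans g).toLinearMap) x := fun x =>
      slice_lTensor φ _ x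
    rw [hR, trans_eq_actF]
    show actF (V := A) φ (actF (V := A) g.toLinearMap a) = actF (V := A) (φ ∘ₗ (trans g).toLinearMap) a
    rw [show actF (C := A) (V := A) φ (actF (C := A) (V := A) g.toLinearMap a) =
      actF (C := A) (V := A) (toConv φ * toConv g.toLinearMap).ofConv a from
        (actF_convMul (toConv φ) (toConv g.toLinearMap) a).symm]
    congr 2
    refine LinearMap.ext fun c => ?_
    show LinearMap.mul' k k (TensorProduct.map φ g.toLinearMap (Coalgebra.comul c)) =
      φ (Algebra.TensorProduct.rid k k A ((Algebra.TensorProduct.map (AlgHom.id k A) g) (Coalgebra.comul c)))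
    induction Coalgebra.comul (R := k) c using TensorProduct.induction_on with
    | zero => simp
    | tmul p q => simp [mul_comm]
    | add p q hp hq => simp only [map_add, hp, hq]
  have h2 : ∀ (N : ℕ) (a : A),
      ((((trans g).toLinearMap - μ • 1 : Module.End k A) ^ N)).lTensor A (Coalgebra.comul (R := k) a) =
        Coalgebra.comul (R := k) ((((trans g).toLinearMap - μ • 1 : Module.End k A) ^ N) a) := by
    intro N
    induction N with
    | zero => intro a; simp [Module.End.one_eq_id]
    | succ N ih =>
      intro a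
      rw [pow_succ, Module.End.mul_apply, ← ih, Module.End.mul_eq_comp, LinearMap.lTensor_comp, LinearMap.comp_apply]
      congr 1
      rw [LinearMap.lTensor_sub, LinearMap.sub_apply, LinearMap.sub_apply, map_sub, ← h1,
        LinearMap.lTensor_smul, LinearMap.smul_apply, LinearMap.smul_apply, Module.End.one_apply, map_smul,
        Module.End.one_eq_id, LinearMap.lTensor_id, LinearMap.id_apply]
      rfl
  have h3 : Coalgebra.comul (R := k) a ∈
      LinearMap.ker ((((trans g).toLinearMap - μ • 1 : Module.End k A) ^ N).lTensor A) := by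
    rw [LinearMap.mem_ker, h2, hN, map_zero]
  rw [(Module.Flat.lTensor_exact A (LinearMap.exact_subtype_ker_map _)).linearMap_ker_eq] at h3
  obtain ⟨x, hx⟩ := h3
  have hle : LinearMap.ker (((trans g).toLinearMap - μ • 1 : Module.End k A) ^ N) ≤ eig g μ := fun y hy =>
    (mem_eig g).mpr ⟨N, LinearMap.mem_ker.mp hy⟩
  refine ⟨(Submodule.inclusion hle).lTensor A x, ?_⟩
  rw [← hx, ← LinearMap.comp_apply, ← LinearMap.lTensor_comp]
  rfl

/-- The eigenvalues met off the augmentation ideal. -/
def supp : Set kˣ := {u | ∃ a ∈ eig g (u : k), Coalgebra.counit (R := k) a ≠ 0}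

theorem one_mem_supp : (1 : kˣ) ∈ supp g := ⟨1, one_mem_eig g, by simp⟩

section

variable {M : Type w} [CommGroup M] (ν : kˣ → M)

open scoped Classical in
/-- The value on one eigenspace. -/
noncomputable def comp₀ (μ : k) : eig g μ →ₗ[k] MonoidAlgebra k M :=
  ((LinearMap.id : k →ₗ[k] k).smulRight
      (if h : μ = 0 then 0 else MonoidAlgebra.single (ν (Units.mk0 μ h)) (1 : k))) ∘ₗ
    (Coalgebra.counit (R := k) (A := A)) ∘ₗ (eig g μ).subtype

open scoped Classical in
/-- `a ↦ Σ ε(a_u) [ν u]`. -/
noncomputable def charMap : A →ₗ[k] MonoidAlgebra k M :=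
  (DirectSum.toModule k k _ (comp₀ g ν)) ∘ₗ
    (LinearEquiv.ofBijective (DirectSum.coeLinearMap (eig g)) (isInternal_eig g)).symm.toLinearMap

theorem charMap_apply {u : kˣ} {a : A} (ha : a ∈ eig g (u : k)) :
    charMap g ν a = Coalgebra.counit (R := k) a • MonoidAlgebra.single (ν u) (1 : k) := by
  classical
  have e : (LinearEquiv.ofBijective (DirectSum.coeLinearMap (eig g)) (isInternal_eig g)).symm a =
      DirectSum.lof k k (fun μ => eig g μ) (u : k) ⟨a, ha⟩ := by
    rw [LinearEquiv.symm_apply_eq, LinearEquiv.ofBijective_apply]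
    rw [DirectSum.lof_eq_of]; exact (DirectSum.coeLinearMap_of (eig g) (u : k) ⟨a, ha⟩).symm
  rw [charMap, LinearMap.comp_apply, LinearEquiv.coe_coe, e, DirectSum.toModule_lof, comp₀,
    LinearMap.comp_apply, LinearMap.comp_apply, LinearMap.smulRight_apply, dif_neg u.ne_zero]
  simp

theorem charMap_one (hν : ν 1 = 1) : charMap g ν 1 = 1 := by
  rw [charMap_apply g ν (one_mem_eig g), hν]
  simp [MonoidAlgebra.one_def]

theorem charMap_mul (hν : ∀ u ∈ supp g, ∀ v ∈ supp g, ν (u * v) = ν u * ν v) (a b : A) :
    charMap g ν (a * b) = charMap g ν a * charMap g ν b := by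
  refine eig_induction g (P := fun a => charMap g ν (a * b) = charMap g ν a * charMap g ν b)
    (by simp) (fun x y hx hy => by rw [add_mul, map_add, hx, hy, map_add, add_mul]) (fun u x hx => ?_) a
  refine eig_induction g (P := fun b => charMap g ν (x * b) = charMap g ν x * charMap g ν b)
    (by simp) (fun p q hp hq => by rw [mul_add, map_add, hp, hq, map_add, mul_add]) (fun v y hy => ?_) b
  have hxy : x * y ∈ eig g ((u * v : kˣ) : k) := mul_mem_eig g hx hy
  rw [charMap_apply g ν hxy, charMap_apply g ν hx, charMap_apply g ν hy, Bialgebra.counit_mul, smul_mul_smul_comm,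
    MonoidAlgebra.single_mul_single, mul_one]
  by_cases hx0 : Coalgebra.counit (R := k) x = 0
  · simp [hx0]
  by_cases hy0 : Coalgebra.counit (R := k) y = 0
  · simp [hy0]
  rw [hν u ⟨x, hx, hx0⟩ v ⟨y, hy, hy0⟩]

variable (hν1 : ν 1 = 1) (hν : ∀ u ∈ supp g, ∀ v ∈ supp g, ν (u * v) = ν u * ν v)

/-- The diagonalisable subgroup attached to the point, as a map of bialgebras. -/
noncomputable def charHom : A →ₐc[k] MonoidAlgebra k M :=
  BialgHom.ofAlgHom (AlgHom.ofLinearMap (charMap g ν) (charMap_one g ν hν1) (charMap_mul g ν hν))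
    (AlgHom.toLinearMap_injective <| LinearMap.ext fun a => by
      refine eig_induction g (P := fun a => Coalgebra.counit (R := k) (charMap g ν a) = Coalgebra.counit (R := k) a)
        (by simp) (fun x y hx hy => by rw [map_add, map_add, map_add, hx, hy]) (fun u x hx => ?_) a
      rw [charMap_apply g ν hx, map_smul, MonoidAlgebra.counit_single]
      simp)
    (AlgHom.toLinearMap_injective <| LinearMap.ext fun a => by
      refine eig_induction g (P := fun a =>
        TensorProduct.map (charMap g ν) (charMap g ν) (Coalgebra.comul (R := k) a) =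
          Coalgebra.comul (R := k) (charMap g ν a))
        (by simp) (fun x y hx hy => by rw [map_add, map_add, map_add, map_add, hx, hy]) (fun u x hx => ?_) a
      obtain ⟨w, hw⟩ := comul_mem g hx
      have e1 : ∀ w : A ⊗[k] eig g (u : k),
          TensorProduct.map (charMap g ν) (charMap g ν) ((eig g (u : k)).subtype.lTensor A w) =
            charMap g ν (slice (Coalgebra.counit (R := k)) ((eig g (u : k)).subtype.lTensor A w)) ⊗ₜ[k]
              MonoidAlgebra.single (ν u) (1 : k) := by
        intro w
        induction w using TensorProduct.induction_on with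
        | zero => simp
        | tmul p q =>
          rw [LinearMap.lTensor_tmul, TensorProduct.map_tmul, slice_tmul, Submodule.subtype_apply,
            charMap_apply g ν q.2, map_smul, TensorProduct.tmul_smul, TensorProduct.smul_tmul']
        | add p q hp hq => simp only [map_add, hp, hq, TensorProduct.add_tmul]
      rw [← hw, e1, hw]
      rw [show slice (Coalgebra.counit (R := k)) (Coalgebra.comul (R := k) x) = x from actF_counit x,
        charMap_apply g ν hx, map_smul, MonoidAlgebra.comul_single]
      simp [TensorProduct.smul_tmul'])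

@[simp] theorem charHom_apply (a : A) : charHom g ν hν1 hν a = charMap g ν a := rfl

end

/-- A non-torsion eigenvalue off the augmentation ideal gives a surjection onto the Laurent polynomials. -/
theorem exists_surjective_of_not_torsion [Algebra.FiniteType k A] {u : kˣ} (hu : u ∈ supp g)
    (htor : ∀ n : ℕ, 0 < n → u ^ n ≠ 1) :
    ∃ φ : A →ₐc[k] MonoidAlgebra k (Multiplicative (Fin 1 → ℤ)), Function.Surjective φ := by
  classical
  have hmulmem : ∀ v ∈ supp g, ∀ w ∈ supp g, v * w ∈ supp g := by
    rintro v ⟨a, ha, ha0⟩ w ⟨b, hb, hb0⟩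
    exact ⟨a * b, mul_mem_eig g ha hb, by rw [Bialgebra.counit_mul]; exact mul_ne_zero ha0 hb0⟩
  -- the identity character
  let φ₀ : A →ₐc[k] MonoidAlgebra k kˣ :=
    charHom g (M := kˣ) id rfl (fun _ _ _ _ => rfl)
  obtain ⟨s, hs⟩ := (Algebra.FiniteType.out : (⊤ : Subalgebra k A).FG)
  let F : Finset kˣ := s.biUnion fun a => (φ₀ a).coeff.support
  let H : Subgroup kˣ := Subgroup.closure (F : Set kˣ)
  have hsupp : ∀ v ∈ supp g, v ∈ H := by
    rintro v ⟨a, ha, ha0⟩
    have hsub : ∀ b : A, (↑(φ₀ b).coeff.support : Set kˣ) ⊆ H := by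
      intro b
      have hb : b ∈ Algebra.adjoin k (↑s : Set A) := by rw [hs]; trivial
      induction hb using Algebra.adjoin_induction with
      | mem x hx =>
        intro w hw
        exact Subgroup.subset_closure (Finset.mem_biUnion.mpr ⟨x, hx, hw⟩)
      | algebraMap r =>
        intro w hw
        rw [show φ₀ (algebraMap k A r) = algebraMap k _ r from (φ₀ : A →ₐ[k] MonoidAlgebra k kˣ).commutes r] at hw
        have hw' := MonoidAlgebra.coeff_single (r := algebraMap k k r) (m := (1 : kˣ))
        rw [MonoidAlgebra.coe_algebraMap, Function.comp_apply, hw'] at hw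
        rw [Finset.mem_singleton.mp (Finsupp.support_single_subset hw)]
        exact one_mem H
      | add x y _ _ hx hy =>
        intro w hw
        rw [map_add, MonoidAlgebra.coeff_add] at hw
        rcases Finset.mem_union.mp (Finsupp.support_add hw) with h | h
        exacts [hx h, hy h]
      | mul x y _ _ hx hy =>
        intro w hw
        rw [map_mul] at hw
        obtain ⟨p, hp, q, hq, rfl⟩ := Finset.mem_mul.mp (MonoidAlgebra.support_coeff_mul_subset _ _ hw)
        exact mul_mem (hx hp) (hy hq)
    refine hsub a ?_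
    show v ∈ (charMap g id a).coeff.support
    rw [charMap_apply g id ha, Finsupp.mem_support_iff]
    simpa using ha0
  -- a character of the finitely generated group `H` non-trivial on `u`
  haveI : Module.Finite ℤ (Additive H) :=
    Module.Finite.iff_addGroup_fg.mpr (GroupFG.iff_add_fg.mp ((Group.fg_iff_subgroup_fg H).mpr ⟨F, rfl⟩))
  let Q := Additive H ⧸ Submodule.torsion ℤ (Additive H)
  haveI : Module.Free ℤ Q := Module.free_of_finite_type_torsion_free'
  let uH : Additive H := Additive.ofMul ⟨u, hsupp u hu⟩
  have hu0 : (Submodule.torsion ℤ (Additive H)).mkQ uH ≠ 0 := by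
    rw [Submodule.mkQ_apply, ne_eq, Submodule.Quotient.mk_eq_zero, Submodule.mem_torsion_iff]
    rintro ⟨⟨n, hn⟩, hnu⟩
    have hn0 : n ≠ 0 := nonZeroDivisors.ne_zero hn
    have hz : (⟨u, hsupp u hu⟩ : H) ^ n = 1 := hnu
    have hz' : u ^ n = 1 := by simpa using congrArg Subtype.val hz
    exact htor n.natAbs (Int.natAbs_pos.mpr hn0) (pow_natAbs_eq_one.mpr hz')
  let bQ := Module.Free.chooseBasis ℤ Q
  obtain ⟨i, hi⟩ : ∃ i, bQ.coord i ((Submodule.torsion ℤ (Additive H)).mkQ uH) ≠ 0 := by
    by_contra h
    push Not at h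
    exact hu0 (bQ.forall_coord_eq_zero_iff.mp h)
  let π : Additive H →ₗ[ℤ] ℤ := bQ.coord i ∘ₗ (Submodule.torsion ℤ (Additive H)).mkQ
  have hπ : Function.Surjective π := fun n =>
    let ⟨y, hy⟩ := (Submodule.torsion ℤ (Additive H)).mkQ_surjective (n • bQ i)
    ⟨y, by show bQ.coord i _ = n; rw [hy, map_smul]; simp⟩
  let c : H →* Multiplicative (Fin 1 → ℤ) :=
    { toFun := fun h => Multiplicative.ofAdd fun _ => π (Additive.ofMul h)
      map_one' := by
        show Multiplicative.ofAdd (fun _ : Fin 1 => π 0) = 1
        simp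
        rfl
      map_mul' := fun x y => by
        show Multiplicative.ofAdd (fun _ : Fin 1 => π (Additive.ofMul x + Additive.ofMul y)) = _
        rw [map_add]
        rfl }
  have hc : Function.Surjective c := fun m => by
    obtain ⟨y, hy⟩ := hπ (Multiplicative.toAdd m 0)
    refine ⟨Additive.toMul y, ?_⟩
    show Multiplicative.ofAdd (fun _ : Fin 1 => π y) = m
    rw [hy]
    exact congrArg Multiplicative.ofAdd (funext fun j => by rw [Fin.eq_zero j]; rfl)
  let ν : kˣ → Multiplicative (Fin 1 → ℤ) := fun v => if h : v ∈ H then c ⟨v, h⟩ else 1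
  have hν1 : ν 1 = 1 := by
    simp only [ν, dif_pos (one_mem H)]
    exact map_one c
  have hνm : ∀ v ∈ supp g, ∀ w ∈ supp g, ν (v * w) = ν v * ν w := fun v hv w hw => by
    simp only [ν, dif_pos (hsupp v hv), dif_pos (hsupp w hw), dif_pos (hsupp _ (hmulmem v hv w hw)), ← map_mul]
    rfl
  let φ := charHom g ν hν1 hνm
  refine ⟨φ, ?_⟩
  -- the image contains the characters
  have hinv : ∀ v ∈ supp g, v⁻¹ ∈ supp g := by
    rintro v ⟨a, ha, ha0⟩
    have hS : (φ₀ : A →ₐ[k] MonoidAlgebra k kˣ).comp (HopfAlgebra.antipodeAlgHom k A) =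
        (HopfAlgebra.antipodeAlgHom k (MonoidAlgebra k kˣ)).comp (φ₀ : A →ₐ[k] MonoidAlgebra k kˣ) := by
      have h := eq_inv_of_mul_eq_one_left (G := WithConv (A →ₐ[k] MonoidAlgebra k kˣ))
        (a := toConv ((HopfAlgebra.antipodeAlgHom k (MonoidAlgebra k kˣ)).comp (φ₀ : A →ₐ[k] MonoidAlgebra k kˣ)))
        (b := toConv (φ₀ : A →ₐ[k] MonoidAlgebra k kˣ)) (by
          have := AlgHom.convMul_comp_bialgHom_distrib (toConv (HopfAlgebra.antipodeAlgHom k (MonoidAlgebra k kˣ)))
            (toConv (AlgHom.id k (MonoidAlgebra k kˣ))) φ₀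
          rw [AlgHom.antipode_id_cancel] at this
          apply WithConv.ofConv_injective
          refine this.symm.trans ?_
          ext c
          simp)
      exact (congrArg WithConv.ofConv h).symm
    have hval : φ₀ (HopfAlgebra.antipodeAlgHom k A a) = Coalgebra.counit (R := k) a • MonoidAlgebra.single v⁻¹ (1 : k) := by
      rw [show φ₀ (HopfAlgebra.antipodeAlgHom k A a) = HopfAlgebra.antipodeAlgHom k (MonoidAlgebra k kˣ) (φ₀ a) from
        DFunLike.congr_fun hS a]
      show HopfAlgebra.antipode k (charMap g id a) = _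
      rw [charMap_apply g id ha, map_smul, MonoidAlgebra.antipode_single]
      simp
    by_contra hno
    have hz : ∀ b : A, (charMap g id b).coeff v⁻¹ = 0 := fun b => by
      refine eig_induction g (P := fun b => (charMap g id b).coeff v⁻¹ = 0) (by simp)
        (fun x y hx hy => by rw [map_add, MonoidAlgebra.coeff_add, Finsupp.add_apply, hx, hy, add_zero])
        (fun w x hx => ?_) b
      rw [charMap_apply g id hx]
      by_cases hwv : w = v⁻¹
      · subst hwv
        by_cases hx0 : Coalgebra.counit (R := k) x = 0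
        · simp [hx0]
        · exact absurd ⟨x, hx, hx0⟩ hno
      · simp [Finsupp.single_eq_of_ne (Ne.symm hwv)]
    have := hz (HopfAlgebra.antipodeAlgHom k A a)
    rw [show charMap g id (HopfAlgebra.antipodeAlgHom k A a) = φ₀ (HopfAlgebra.antipodeAlgHom k A a) from rfl,
      hval] at this
    exact ha0 (by simpa using this)
  have hFsupp : ∀ v ∈ F, v ∈ supp g := by
    intro v hv
    obtain ⟨a, -, hva⟩ := Finset.mem_biUnion.mp hv
    by_contra hno
    refine Finsupp.mem_support_iff.mp hva ?_
    show (charMap g id a).coeff v = 0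
    refine eig_induction g (P := fun b => (charMap g id b).coeff v = 0) (by simp)
      (fun x y hx hy => by rw [map_add, MonoidAlgebra.coeff_add, Finsupp.add_apply, hx, hy, add_zero])
      (fun w x hx => ?_) a
    rw [charMap_apply g id hx]
    by_cases hwv : w = v
    · subst hwv
      by_cases hx0 : Coalgebra.counit (R := k) x = 0
      · simp [hx0]
      · exact absurd ⟨x, hx, hx0⟩ hno
    · simp [Finsupp.single_eq_of_ne (Ne.symm hwv)]
  have hH : ∀ v ∈ H, v ∈ supp g := fun v hv => by
    induction hv using Subgroup.closure_induction with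
    | mem x hx => exact hFsupp x hx
    | one => exact one_mem_supp g
    | mul x y _ _ hx hy => exact hmulmem x hx y hy
    | inv x _ hx => exact hinv x hx
  have hsingle : ∀ m : Multiplicative (Fin 1 → ℤ), MonoidAlgebra.single m (1 : k) ∈ (φ : A →ₐ[k] _).range := by
    intro m
    obtain ⟨⟨v, hv⟩, rfl⟩ := hc m
    obtain ⟨a, ha, ha0⟩ := hH v hv
    refine ⟨(Coalgebra.counit (R := k) a)⁻¹ • a, ?_⟩
    show charMap g ν _ = _
    rw [map_smul, charMap_apply g ν ha, smul_smul, inv_mul_cancel₀ ha0, one_smul]
    simp [ν, hv]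
  intro z
  induction z using MonoidAlgebra.induction_linear with
  | zero => exact ⟨0, map_zero _⟩
  | add p q hp hq =>
    obtain ⟨a, rfl⟩ := hp
    obtain ⟨b, rfl⟩ := hq
    exact ⟨a + b, map_add _ _ _⟩
  | single m r =>
    obtain ⟨a, ha⟩ := hsingle m
    refine ⟨r • a, ?_⟩
    rw [map_smul, show φ a = _ from ha]
    simp

end Groth.Agent.GITUnip
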