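import Groth.Agent.AbSchH3.TorusAV
import Groth.Prelude.Def_Red
import Mathlib.AlgebraicGeometry.Morphisms.FlatDescent

/-!
# Descending connectedness and the absence of subtori from a field extension
-/

set_option linter.style.haveILetI false

universe u

open CategoryTheory CategoryTheory.Limits MonoidalCategory CartesianMonoidalCategory MonObj AlgebraicGeometry

namespace Groth.Agent.GITUnip

variable {K L : Type u} [Field K] [Field L] (g : Spec (CommRingCat.of L) ⟶ Spec (CommRingCat.of K))

theorem surjective_flat_specField : Surjective g ∧ Flat g := by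
  refine ⟨⟨fun x => ⟨IsLocalRing.closedPoint L, Subsingleton.elim (α := Spec (CommRingCat.of K)) _ _⟩⟩, ?_⟩
  rw [← Spec.map_preimage g, HasRingHomProperty.Spec_iff (P := @Flat)]
  letI := (Spec.preimage g).hom.toAlgebra
  exact (inferInstance : Module.Flat K L)

theorem connectedSpace_of_bc (U : Over (Spec (CommRingCat.of K))) (h : ConnectedSpace (Red.bc g U).left) :
    ConnectedSpace U.left := by
  obtain ⟨hs, -⟩ := surjective_flat_specField g
  haveI : Surjective (pullback.fst U.hom g) := MorphismProperty.pullback_fst _ _ hs
  haveI : ConnectedSpace ↥(pullback U.hom g) := h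
  exact (pullback.fst U.hom g).surjective.connectedSpace (pullback.fst U.hom g).continuous

theorem hasNoSubtorus_of_bc (U : Over (Spec (CommRingCat.of K))) [GrpObj U]
    (h : Red.HasNoSubtorus L (Red.bc g U)) : Red.HasNoSubtorus K U := by
  intro T _ j _ _ hT
  haveI : IsIso (pullback.snd T.hom g) :=
    h (Red.bc g T) ((Over.pullback g).map j) (AbSchH3.TorusAV.isTorus_bc g hT)
  obtain ⟨hs, hf⟩ := surjective_flat_specField g
  exact MorphismProperty.of_isPullback_of_descendsAlong (P := MorphismProperty.isomorphisms Scheme.{u})
    (Q := @Surjective ⊓ @Flat ⊓ @QuasiCompact) (IsPullback.of_hasPullback T.hom g).flip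
    ⟨⟨hs, hf⟩, inferInstance⟩ (MorphismProperty.isomorphisms.infer_property _)

end Groth.Agent.GITUnip
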