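import Groth.Agent.GITUnip.ClosedOrbit
import Groth.Agent.AGF27.Hopf
import Groth.Agent.GrpSchLib.Action

/-!
# The coaction of an action on an affine scheme, and closed orbits for unipotent groups

The coordinate ring of an affine scheme with a left action gets the right coaction of `g ↦ g⁻¹ · x`.
-/

set_option linter.style.haveILetI false
set_option linter.unusedSimpArgs false
set_option backward.isDefEq.respectTransparency false

universe u

open CategoryTheory MonoidalCategory CartesianMonoidalCategory MonObj GrpObj AlgebraicGeometry TensorProduct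
open Groth.Agent.GrpSchLib.Kunneth
open scoped Groth.Agent.AGF27

namespace Groth.Agent.GITUnip

open AGF27

variable {k : Type u} [Field k] {G U : Over (Spec (CommRingCat.of k))} [GrpObj G] [IsAffine G.left] [IsAffine U.left]
variable (b : AlgGrp.Action G U) {B : Type u} [CommRing B] [Algebra k B]

/-- The coaction on coordinates. -/
noncomputable def coactA : Fn U →ₐ[k] Fn U ⊗[k] Fn G :=
  pullFn (lift (toPt (Algebra.TensorProduct.includeRight : Fn G →ₐ[k] Fn U ⊗[k] Fn G))⁻¹
    (toPt (Algebra.TensorProduct.includeLeft : Fn U →ₐ[k] Fn U ⊗[k] Fn G)) ≫ b.act)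

theorem toPt_coact (f : Fn U →ₐ[k] B) (g : Fn G →ₐ[k] B) :
    toPt ((Algebra.TensorProduct.lift f g fun _ _ => Commute.all _ _).comp (coactA b)) =
      lift (toPt g)⁻¹ (toPt f) ≫ b.act := by
  rw [← ptMap_toPt, coactA, toPt_pullFn, ← Category.assoc, comp_lift, ptMap_inv, ptMap_toPt, ptMap_toPt,
    Algebra.TensorProduct.lift_comp_includeLeft]
  congr 4
  ext x
  simp

theorem coassoc_alg :
    (Algebra.TensorProduct.assoc k k k (Fn U) (Fn G) (Fn G)).toAlgHom.comp
      ((Algebra.TensorProduct.map (coactA b) (AlgHom.id k (Fn G))).comp (coactA b)) =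
    (Algebra.TensorProduct.map (AlgHom.id k (Fn U)) (comulAlg G)).comp (coactA b) := by
  refine (ptEquiv (X := U)).symm.injective ?_
  let j1 : Fn U →ₐ[k] Fn U ⊗[k] (Fn G ⊗[k] Fn G) := Algebra.TensorProduct.includeLeft
  let j2 : Fn G →ₐ[k] Fn U ⊗[k] (Fn G ⊗[k] Fn G) :=
    Algebra.TensorProduct.includeRight.comp Algebra.TensorProduct.includeLeft
  let j3 : Fn G →ₐ[k] Fn U ⊗[k] (Fn G ⊗[k] Fn G) :=
    Algebra.TensorProduct.includeRight.comp Algebra.TensorProduct.includeRight
  have e1 : (Algebra.TensorProduct.assoc k k k (Fn U) (Fn G) (Fn G)).toAlgHom.comp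
      (Algebra.TensorProduct.map (coactA b) (AlgHom.id k (Fn G))) =
      Algebra.TensorProduct.lift ((Algebra.TensorProduct.lift j1 j2 fun _ _ => Commute.all _ _).comp (coactA b))
        j3 fun _ _ => Commute.all _ _ := by
    apply Algebra.TensorProduct.ext
    · ext x
      simp only [AlgHom.coe_comp, AlgHom.coe_restrictScalars', Function.comp_apply,
        Algebra.TensorProduct.includeLeft_apply, Algebra.TensorProduct.map_tmul, map_one,
        Algebra.TensorProduct.lift_tmul, _root_.mul_one]
      induction coactA b x using TensorProduct.induction_on with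
      | zero => simp
      | tmul p q => simp [j1, j2]
      | add p q hp hq => simp only [TensorProduct.add_tmul, map_add, hp, hq]
    · ext x
      simp [j3, Algebra.TensorProduct.one_def]
  have e2 : Algebra.TensorProduct.map (AlgHom.id k (Fn U)) (comulAlg G) =
      Algebra.TensorProduct.lift j1 ((Algebra.TensorProduct.lift j2 j3 fun _ _ => Commute.all _ _).comp (comulAlg G))
        fun _ _ => Commute.all _ _ := by
    apply Algebra.TensorProduct.ext
    · ext x
      simp [j1]
    · ext x
      simp only [AlgHom.coe_comp, AlgHom.coe_restrictScalars', Function.comp_apply,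
        Algebra.TensorProduct.includeRight_apply, Algebra.TensorProduct.map_tmul, map_one,
        Algebra.TensorProduct.lift_tmul, _root_.one_mul, AlgHom.coe_id, id_eq]
      induction comulAlg G x using TensorProduct.induction_on with
      | zero => simp
      | tmul p q => simp [j2, j3]
      | add p q hp hq => simp only [TensorProduct.tmul_add, map_add, hp, hq]
  show toPt _ = toPt _
  rw [← AlgHom.comp_assoc, e1, e2, toPt_coact, toPt_coact, toPt_coact, toPt_lift, GrpSchLib.act_mul, _root_.mul_inv_rev]

theorem counit_alg :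
    (Algebra.TensorProduct.map (AlgHom.id k (Fn U)) (counitAlg G)).comp (coactA b) =
      (Algebra.TensorProduct.includeLeft : Fn U →ₐ[k] Fn U ⊗[k] k) := by
  refine (ptEquiv (X := U)).symm.injective ?_
  have e : Algebra.TensorProduct.map (AlgHom.id k (Fn U)) (counitAlg G) =
      Algebra.TensorProduct.lift (Algebra.TensorProduct.includeLeft : Fn U →ₐ[k] Fn U ⊗[k] k)
        ((Algebra.ofId k (Fn U ⊗[k] k)).comp (counitAlg G)) fun _ _ => Commute.all _ _ := by
    apply Algebra.TensorProduct.ext
    · ext x
      simp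
    · ext x
      simp [Algebra.algebraMap_eq_smul_one, Algebra.TensorProduct.one_def, ← TensorProduct.tmul_smul]
  show toPt _ = toPt _
  rw [e, toPt_coact, toPt_counit, inv_one, GrpSchLib.act_one]

/-- The comodule of coordinates of an affine scheme with an action. -/
@[reducible] noncomputable def comodOfAct : HopfRep.Comod k (Fn G) (Fn U) where
  coact := (coactA b).toLinearMap
  coassoc := LinearMap.ext fun f => AlgHom.congr_fun (coassoc_alg b) f
  counit_comp := LinearMap.ext fun f => AlgHom.congr_fun (counit_alg b) f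

/-- The coordinate comodule is an algebra coaction. -/
theorem isCoactAlg_comodOfAct :
    letI := comodOfAct b
    GLin.IsCoactAlg k (Fn G) (Fn U) :=
  letI := comodOfAct b
  ⟨map_one (coactA b), fun f f' => map_mul (coactA b) f f'⟩

/-- A rational point read on coordinates. -/
noncomputable def fnPt (x : 𝟙_ (Over (Spec (CommRingCat.of k))) ⟶ U) : Fn U →ₐ[k] k :=
  pullFn (toUnit (VecGrp.pt k k) ≫ x)

theorem toPt_orbitHom (x : 𝟙_ (Over (Spec (CommRingCat.of k))) ⟶ U) :
    letI := comodOfAct b
    haveI := isCoactAlg_comodOfAct b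
    toPt (GLin.orbitHom k (Fn G) (fnPt x)) = (univPt G)⁻¹ ≫ b.orbitMap x := by
  letI := comodOfAct b
  haveI := isCoactAlg_comodOfAct b
  have e : GLin.orbitHom k (Fn G) (fnPt x) =
      (Algebra.TensorProduct.lift ((Algebra.ofId k (Fn G)).comp (fnPt x)) (AlgHom.id k (Fn G))
        fun _ _ => Commute.all _ _).comp (coactA b) := by
    refine AlgHom.ext fun f => ?_
    show Algebra.TensorProduct.lid k (Fn G) (Algebra.TensorProduct.map (fnPt x) (AlgHom.id k (Fn G)) (coactA b f)) = _
    rw [AlgHom.comp_apply]
    induction coactA b f using TensorProduct.induction_on with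
    | zero => simp
    | tmul p q => simp [Algebra.smul_def]
    | add p q hp hq => simp only [map_add, hp, hq]
  rw [e, toPt_coact, ← ptMap_toPt, fnPt, toPt_pullFn, ← Category.assoc, toUnit_unique (_ ≫ toUnit _) (toUnit _),
    AlgGrp.Action.orbitMap, ← Category.assoc, comp_lift, Category.comp_id, ← Category.assoc,
    toUnit_unique ((univPt G)⁻¹ ≫ toUnit G) (toUnit _)]
  rfl

theorem isClosed_range_orbitMap_iff (x : 𝟙_ (Over (Spec (CommRingCat.of k))) ⟶ U) :
    letI := comodOfAct b
    haveI := isCoactAlg_comodOfAct b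
    IsClosed (Set.range (b.orbitMap x).left.base) ↔ GLin.IsClosedOrbit k (Fn G) (fnPt x) := by
  letI := comodOfAct b
  haveI := isCoactAlg_comodOfAct b
  let u := univPt G
  haveI : IsIso u.left := by
    rw [show u.left = Spec.map (CommRingCat.ofHom (AlgHom.id k (Fn G)).toRingHom) ≫ G.left.isoSpec.inv from rfl,
      show CommRingCat.ofHom (AlgHom.id k (Fn G)).toRingHom = 𝟙 (CommRingCat.of (Fn G)) from rfl, Spec.map_id]
    exact @IsIso.comp_isIso _ _ _ _ _ _ _ (IsIso.id _) (Iso.isIso_inv G.left.isoSpec)
  haveI : IsIso ((Over.forget _).map u) := ‹IsIso u.left›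
  haveI : IsIso u := isIso_of_reflects_iso u (Over.forget _)
  have hinv : u⁻¹ = u ≫ GrpObj.inv := Hom.inv_def u
  haveI : IsIso u⁻¹ := by rw [hinv]; infer_instance
  haveI : IsIso (u⁻¹).left := (inferInstance : IsIso ((Over.forget _).map u⁻¹))
  have h : Spec.map (CommRingCat.ofHom (GLin.orbitHom k (Fn G) (fnPt x)).toRingHom) ≫ U.left.isoSpec.inv =
      (u⁻¹).left ≫ (b.orbitMap x).left := congrArg CommaMorphism.left (toPt_orbitHom b x)
  have e1 : Set.range ((u⁻¹).left ≫ (b.orbitMap x).left).base = Set.range (b.orbitMap x).left.base := by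
    refine Set.Subset.antisymm ?_ ?_
    · rintro _ ⟨g, rfl⟩
      exact ⟨_, rfl⟩
    rintro _ ⟨g, rfl⟩
    exact ⟨(inv (u⁻¹).left).base g, by
      rw [← Scheme.Hom.comp_apply, IsIso.inv_hom_id_assoc]⟩
  have e2 : Set.range (b.orbitMap x).left.base =
      U.left.isoSpec.inv.base '' Set.range (Spec.map (CommRingCat.ofHom (GLin.orbitHom k (Fn G) (fnPt x)).toRingHom)).base := by
    rw [← e1, ← h, ← Set.range_comp]
    rfl
  rw [e2]
  exact (Scheme.homeoOfIso U.left.isoSpec.symm).isClosed_image

/-- Orbits of a unipotent group on an affine scheme are closed. -/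
theorem isClosed_range_orbitMap [IsAlgClosed k] [LocallyOfFiniteType G.hom] [LocallyOfFiniteType U.hom]
    (hU : HopfRep.IsUnipotent k (Fn G)) (x : 𝟙_ (Over (Spec (CommRingCat.of k))) ⟶ U) :
    IsClosed (Set.range (b.orbitMap x).left.base) :=
  letI := comodOfAct b
  haveI := isCoactAlg_comodOfAct b
  (isClosed_range_orbitMap_iff b x).mpr (isClosedOrbit_of_isUnipotent hU _)

end Groth.Agent.GITUnip
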